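import Groth.Agent.CurvFam16.P1Map
import Groth.Agent.CurvFam16.FFHom
import Groth.Agent.CurvFam16.Invol
import Groth.Agent.CurvFam16.Hurwitz
import Groth.Agent.H23.CoverPush
import Groth.Agent.H23.FiniteFlatDeg
import Mathlib.AlgebraicGeometry.Morphisms.FlatRank

/-! Double covers of the line as subfields of index two. -/

noncomputable section

set_option linter.style.haveILetI false
set_option linter.unusedSectionVars false
set_option backward.isDefEq.respectTransparency false
set_option backward.isDefEq.respectTransparency.types false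

universe u

open CategoryTheory CategoryTheory.Limits AlgebraicGeometry TopologicalSpace Opposite

namespace Groth.Agent.CurvFam16.Genus1

attribute [local instance] GenFF.ffAlg

variable {k : Type u} [Field k] {X : Scheme.{u}} [X.Over (Spec (CommRingCat.of k))] [IsIntegral X]
  [IsProper (X ↘ Spec (CommRingCat.of k))] (hdim : topologicalKrullDim X = 1)

include hdim in
/-- A double cover of the line gives a subfield generated by one element, of index two. -/
theorem exists_range [IsIntegral (CohB1.ProjSpace 1 k)] [(CohB1.ProjSpace 1 k).Over (Spec (CommRingCat.of k))]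
    (hover : ((CohB1.ProjSpace 1 k) ↘ Spec (CommRingCat.of k)) = CohB1.ProjSpace.toSpec 1 k)
    (f : X ⟶ CohB1.ProjSpace 1 k) [IsFinite f]
    (hf : f ≫ CohB1.ProjSpace.toSpec 1 k = X ↘ Spec (CommRingCat.of k))
    (hd : FlatMod.IsFinLocFreeOfRank 2 ((Scheme.Modules.pushforward f).obj (Coh.structureModule X))) :
    ∃ (ψ : (CohB1.ProjSpace 1 k).functionField →ₐ[k] X.functionField) (t : X.functionField),
      FFHom.Restricts f (CommRingCat.ofHom ψ.toRingHom) ∧ Transcendental k t ∧
      ψ.fieldRange = IntermediateField.adjoin k ({t} : Set X.functionField) ∧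
      Module.finrank (IntermediateField.adjoin k ({t} : Set X.functionField)) X.functionField = 2 := by
  haveI : IsProper ((CohB1.ProjSpace 1 k) ↘ Spec (CommRingCat.of k)) := hover ▸ PnCoh.Chow.isProper_toSpec 1 k
  have hP : topologicalKrullDim ↥(CohB1.ProjSpace 1 k) = 1 := by simpa using S10829.result k 1
  have e := P1Map.genericPoint_map_eq (k := k) hdim hP f
  let ψ : (CohB1.ProjSpace 1 k).functionField →ₐ[k] X.functionField :=
    { (P1Map.ffMap f e).hom with commutes' := fun c => Hurwitz.algebraMap_map k f (hover ▸ hf) e c }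
  have hr : FFHom.Restricts f (CommRingCat.ofHom ψ.toRingHom) := Invol.restricts_ffMap f e
  obtain ⟨⟨-, hflat, hlfp⟩, hrank⟩ := H23.CoverPush.isCover_of_crit f (H23.CoverPush.crit_of_isFinLocFreeOfRank_push f hd)
  haveI := hflat
  haveI := hlfp
  have hres : f.residueDegree (genericPoint X) = 2 := by
    obtain ⟨-, hsum⟩ := H23.FiniteFibreSum.sum_finrank f (genericPoint ↥(CohB1.ProjSpace 1 k))
    have hfib : f ⁻¹' {genericPoint ↥(CohB1.ProjSpace 1 k)} = {genericPoint X} := by
      ext x
      refine ⟨fun hx => by_contra fun hne => ?_, fun hx => by rw [Set.mem_singleton_iff] at hx; subst hx; exact e⟩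
      haveI := CurveCohLib.isNoetherian_of_proper (k := k) (X := X)
      have hxc : IsClosed ({x} : Set X) := by_contra fun h => hne (CurveCohLib.eq_genericPoint_of_not_isClosed hdim h)
      have := f.isClosedMap _ hxc
      rw [Set.image_singleton] at this
      exact GenFF.not_closed_generic hP ((show f x = _ from hx) ▸ this)
    rw [hfib, finsum_mem_singleton] at hsum
    have hlen : H23.FiniteFibreSum.fibreLen f (genericPoint X) = 1 := by
      have hX : IsField (X.presheaf.stalk (genericPoint X)) := Field.toIsField X.functionField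
      have hY : IsField ((CohB1.ProjSpace 1 k).presheaf.stalk (f (genericPoint X))) := by
        rw [e]; exact Field.toIsField (CohB1.ProjSpace 1 k).functionField
      show Module.length _ _ = 1
      rw [IsLocalRing.isField_iff_maximalIdeal_eq.1 hY, Ideal.map_bot]
      haveI : IsSimpleModule (X.presheaf.stalk (genericPoint X))
          (X.presheaf.stalk (genericPoint X) ⧸ (⊥ : Ideal (X.presheaf.stalk (genericPoint X)))) := by
        rw [isSimpleModule_iff_isCoatom]
        refine ⟨bot_ne_top, fun I hI => ?_⟩
        letI := hX.toField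
        exact (Ideal.eq_bot_or_top I).resolve_left hI.ne'
      exact Module.length_eq_one_iff.2 inferInstance
    rw [hlen, ENat.toNat_one, hrank] at hsum
    simpa using hsum
  obtain ⟨θ, hθ⟩ := CurveLuroth.exists_iso_line_field k
  have hθc : ∀ c : k, θ.inv.hom (algebraMap k (RatFunc k) c) = algebraMap k (CohB1.ProjSpace 1 k).functionField c := by
    intro c
    rw [← P1Map.ffC_eq, hover]
    have h2 : (CurveLuroth.ratC k ≫ θ.inv).hom c = (CurveLuroth.ffC (CohB1.ProjSpace.toSpec 1 k)).hom c := by
      rw [← hθ, Category.assoc, θ.hom_inv_id, Category.comp_id]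
    exact h2
  let θ' : RatFunc k →ₐ[k] (CohB1.ProjSpace 1 k).functionField := { θ.inv.hom with commutes' := hθc }
  have hθs : θ'.fieldRange = ⊤ := AlgHom.fieldRange_eq_top.2 (ConcreteCategory.bijective_of_isIso θ.inv).2
  let w : RatFunc k →ₐ[k] X.functionField := ψ.comp θ'
  have hrange : ψ.fieldRange = IntermediateField.adjoin k ({w RatFunc.X} : Set X.functionField) := by
    rw [P1Map.adjoin_range, AlgHom.fieldRange_eq_map ψ, ← hθs, AlgHom.map_fieldRange]
  refine ⟨ψ, w RatFunc.X, hr, fun h => RatFunc.transcendental_X ((isAlgebraic_algHom_iff w w.toRingHom.injective).1 h),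
    hrange, ?_⟩
  rw [← hrange, ← hres, (P1Map.residueDegree_eq f e).1]
  letI := (P1Map.ffMap f e).hom.toAlgebra
  exact (Algebra.finrank_eq_of_equiv_equiv (AlgEquiv.ofInjectiveField ψ).toRingEquiv
    (RingEquiv.refl X.functionField) rfl).symm

end Groth.Agent.CurvFam16.Genus1
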