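import Groth.Agent.CurvFam16.Genus1.Swap
import Groth.Agent.CurvFam16.Invol
import Groth.Agent.LS17.Point

/-! Automorphisms of a curve and its places. -/

noncomputable section

set_option linter.style.haveILetI false
set_option linter.unusedSectionVars false
set_option backward.isDefEq.respectTransparency false
set_option backward.isDefEq.respectTransparency.types false

universe u

open CategoryTheory CategoryTheory.Limits AlgebraicGeometry TopologicalSpace Opposite
open Groth.Agent.CurveCohLib.Polar (InR)

namespace Groth.Agent.CurvFam16.Genus1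

attribute [local instance] CurveFF.ffAlg

variable {k : Type u} [Field k] [IsAlgClosed k] {X : Scheme.{u}} [X.Over (Spec (CommRingCat.of k))]
  [IsIntegral X] [IsProper (X ↘ Spec (CommRingCat.of k))] [Smooth (X ↘ Spec (CommRingCat.of k))]
  (hdim : topologicalKrullDim X = 1)

/-- An endomorphism moves places as its map of function fields does. -/
theorem pl_image {H : X ⟶ X} {w : X.functionField ≃ₐ[k] X.functionField}
    (hr : FFHom.Restricts H (CommRingCat.ofHom w.toAlgHom.toRingHom)) (z : CurveFF.Pt X)
    (hHz : IsClosed ({H z.1} : Set X)) :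
    CurveFF.pl k X hdim ⟨H z.1, hHz⟩ = cm w (CurveFF.pl k X hdim z) :=
  FFLib.place_eq_of_le fun c hc => by
    rw [cm_apply]
    exact (CurveFF.inR_iff k X hdim z _).1
      (Invol.inR_of_restricts hr z.1 ((CurveFF.inR_iff k X hdim ⟨H z.1, hHz⟩ c).2 hc))

include hdim in
/-- Every automorphism of the function field is induced by one of the curve. -/
theorem exists_iso (w : X.functionField ≃ₐ[k] X.functionField) :
    ∃ H : X ≅ X, H.hom ≫ (X ↘ Spec (CommRingCat.of k)) = X ↘ Spec (CommRingCat.of k) ∧
      FFHom.Restricts H.hom (CommRingCat.ofHom w.toAlgHom.toRingHom) :=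
  FFHom.exists_iso hdim hdim w

end Groth.Agent.CurvFam16.Genus1
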