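import Groth.Agent.CurvFam16.Genus1.Swap
import Groth.Agent.CurvFam16.InvolFix
import Groth.Agent.LS17.Lin

/-! The pencils of degree two on a genus one curve are translates of one another. -/

set_option linter.unusedSectionVars false
set_option linter.style.haveILetI false
set_option backward.isDefEq.respectTransparency false
set_option backward.isDefEq.respectTransparency.types false

universe u

namespace Groth.Agent.CurvFam16.Genus1

open FunFld WithZero IntermediateField
open Groth.Agent.FFLib Groth.Agent.LS17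

variable {k K : Type u} [Field k] [Field K] [Algebra k K] [IsAlgClosed k] (hK : IsFunctionField k K)
include hK

/-- The involution of a pencil of degree two has a fixed place when the genus is one. -/
theorem exists_fixed (hg : genus k K = 1) (h2k : (2 : k) ≠ 0) {t : K} (h2 : Module.finrank k⟮t⟯ K = 2)
    {σ : K ≃ₐ[k] K} (hσt : σ t = t) (hne : σ ≠ AlgEquiv.refl) : ∃ Y : Place k K, cm σ Y = Y := by
  let E : IntermediateField k K := k⟮t⟯
  have hfix : ∀ c : E, σ c = c := fun c => by
    have hle : E ≤ InvolFix.fixedBy σ := adjoin_simple_le_iff.2 hσt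
    exact hle c.2
  let τ : K ≃ₐ[E] K := AlgEquiv.ofRingEquiv (f := σ.toRingEquiv) hfix
  have hτ : τ ≠ AlgEquiv.refl := fun h =>
    hne (AlgEquiv.ext fun z => congrArg (fun φ : K ≃ₐ[E] K => φ z) h)
  have hgE : genus k E = 0 := by
    refine (genus_eq_zero_of_adjoin (InvolFix.isFunctionField_of_finrank hK E h2)
      (x := (⟨t, mem_adjoin_simple_self k t⟩ : E)) ?_).1
    refine map_injective E.val ?_
    rw [adjoin_map, Set.image_singleton, ← AlgHom.fieldRange_eq_map, fieldRange_val]
    rfl
  have h := InvolFix.card_fixed h2k hK E h2 τ hτ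
  rw [hg, hgE] at h
  have hpos : 0 < Nat.card {Q : Place k K // ∀ x, Q.1 (τ x) = Q.1 x} := by omega
  obtain ⟨⟨Y, hY⟩⟩ := (Nat.card_pos_iff.1 hpos).1
  exact ⟨Y, Subtype.ext (Valuation.ext fun x => (cm_apply σ Y x).trans (hY x))⟩

/-- Any two places pair up in an effective divisor of degree two. -/
theorem exists_pair {E : Divisor k K} (hE : 0 ≤ E) (hd : E.deg = 2) :
    ∃ P Q : Place k K, E = Finsupp.single P 1 + Finsupp.single Q 1 := by
  obtain ⟨P, hP⟩ := exists_single_le hK hE (by omega)
  obtain ⟨Q, hQ⟩ := exists_single_le hK (E := E - Finsupp.single P 1) (sub_nonneg.mpr hP)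
    (by rw [deg_sub_pt hK, hd]; norm_num)
  refine ⟨P, Q, eq_of_sub_eq_zero (eq_zero_of_deg_zero hK (sub_nonneg.mpr (add_le_of_le_sub_left hQ)) ?_)⟩
  rw [Divisor.deg_sub, Divisor.deg_add, deg_pt hK, deg_pt hK, hd]
  norm_num

/-- An element with linearly equivalent poles lies in the field of the pencil. -/
theorem mem_of_lin {t u : K} (hg : genus k K = 1) (ht : Transcendental k t) (hu : Transcendental k u)
    (hd : Module.finrank k⟮t⟯ K = 2) (h : Lin (poles u : Divisor k K) (poles t)) : u ∈ k⟮t⟯ := by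
  classical
  obtain ⟨z, hz, hzd⟩ := h
  set B : Divisor k K := poles t
  have hB0 : 0 ≤ B := poles_nonneg t
  have hB2 : B.deg = 2 := by rw [deg_poles hK.1 ht, hd]; norm_num
  have hl : (ell B : ℤ) = 2 := by rw [ell_of_deg_gt hK (by rw [hB2, hg]; norm_num), hB2, hg]; rfl
  haveI := L_finite hK.1 B
  have hpole : ∀ (x : K), Transcendental k x → ∀ Q, -(poles x : Divisor k K) Q ≤ Q.ord x := fun x _ Q => by
    rw [poles, Finsupp.mapRange_apply, div_apply hK.1]; omega
  have htne : t ≠ 0 := fun e => ht (e ▸ isAlgebraic_zero)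
  have hune : u ≠ 0 := fun e => hu (e ▸ isAlgebraic_zero)
  have ht1 : (1 : K) ∈ L B := (mem_L_iff_ord one_ne_zero).2 fun Q => by
    have := hB0 Q
    rw [Finsupp.zero_apply] at this
    rw [ord_one]; omega
  have htB : t ∈ L B := (mem_L_iff_ord htne).2 (hpole t ht)
  have hli : LinearIndependent k ![(⟨1, ht1⟩ : L B), ⟨t, htB⟩] := by
    rw [LinearIndependent.pair_iff]
    intro a b hab
    have hab' : algebraMap k K a + algebraMap k K b * t = 0 := by
      simpa [Algebra.smul_def] using congrArg Subtype.val hab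
    by_cases hb : b = 0
    · subst hb
      exact ⟨by simpa using hab', rfl⟩
    · exfalso
      refine ht ?_
      have hb' : algebraMap k K b ≠ 0 := (map_ne_zero _).2 hb
      have e : t = algebraMap k K (-a / b) := by
        rw [map_div₀, map_neg, eq_div_iff hb']
        linear_combination hab'
      exact e ▸ isAlgebraic_algebraMap _
  have hspan : ∀ x ∈ L B, x ∈ k⟮t⟯ := fun x hx => by
    have htop := hli.span_eq_top_of_card_eq_finrank (by
      rw [Fintype.card_fin]
      simp only [ell] at hl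
      omega)
    have hmem : (⟨x, hx⟩ : L B) ∈ Submodule.span k (Set.range ![(⟨1, ht1⟩ : L B), ⟨t, htB⟩]) := htop ▸ trivial
    obtain ⟨c, hc⟩ := (Submodule.mem_span_range_iff_exists_fun k).1 hmem
    rw [Fin.sum_univ_two] at hc
    have hx' : algebraMap k K (c 0) + algebraMap k K (c 1) * t = x := by
      simpa [Algebra.smul_def] using congrArg Subtype.val hc
    rw [← hx']
    exact add_mem (IntermediateField.algebraMap_mem _ _)
      (mul_mem (IntermediateField.algebraMap_mem _ _) (mem_adjoin_simple_self k t))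
  have hzi : z⁻¹ ≠ 0 := inv_ne_zero hz
  have hBz : ∀ Q : Place k K, B Q = (poles u : Divisor k K) Q + Q.ord z := fun Q => by
    rw [hzd, Finsupp.add_apply, div_apply hK.1]
  have h1 : z⁻¹ ∈ L B := (mem_L_iff_ord hzi).2 fun Q => by
    have h1 := hBz Q
    have h2 := (poles_nonneg (k := k) u) Q
    rw [Finsupp.zero_apply] at h2
    rw [ord_inv]; omega
  have h2 : u * z⁻¹ ∈ L B := (mem_L_iff_ord (mul_ne_zero hune hzi)).2 fun Q => by
    have h1 := hBz Q
    have h2 := hpole u hu Q
    rw [ord_mul Q hune hzi, ord_inv]; omega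
  have e : u = u * z⁻¹ / z⁻¹ := by field_simp
  rw [e]
  exact div_mem (hspan _ h2) (hspan _ h1)

/-- An involution carrying one pencil of degree two to another. -/
theorem exists_aut_maps (hg : genus k K = 1) (h2k : (2 : k) ≠ 0) {t₁ t₂ : K} (ht₁ : Transcendental k t₁)
    (ht₂ : Transcendental k t₂) (hd₁ : Module.finrank k⟮t₁⟯ K = 2) (hd₂ : Module.finrank k⟮t₂⟯ K = 2) :
    ∃ w : K ≃ₐ[k] K, (k⟮t₁⟯).map (w : K →ₐ[k] K) = k⟮t₂⟯ := by
  classical
  have hF := hK.1
  obtain ⟨P0, -⟩ := exists_place_pole hF ht₁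
  set A : Divisor k K := poles t₁
  set B : Divisor k K := poles t₂
  have hA2 : A.deg = 2 := by rw [deg_poles hF ht₁, hd₁]; norm_num
  have hB2 : B.deg = 2 := by rw [deg_poles hF ht₂, hd₂]; norm_num
  set D : Divisor k K := A + B - Finsupp.single P0 1 - Finsupp.single P0 1
  have hD2 : D.deg = 2 := by rw [deg_sub_pt hK, deg_sub_pt hK, Divisor.deg_add, hA2, hB2]; norm_num
  have hlD : (ell D : ℤ) = 2 := by rw [ell_of_deg_gt hK (by rw [hD2, hg]; norm_num), hD2, hg]; rfl
  obtain ⟨E, hE0, hDE⟩ := exists_effective hF (D := D) (by omega)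
  obtain ⟨R, S, rfl⟩ := exists_pair hK hE0 ((hDE.deg_eq hF).symm.trans hD2)
  obtain ⟨t, σ, -, h2, hσt, hσne, -, -, -, hlinσ⟩ := exists_swap hK hg h2k R S
  obtain ⟨Y, hY⟩ := exists_fixed hK hg h2k h2 hσt hσne
  have hYY : Lin (Finsupp.single Y 1 + Finsupp.single Y 1 : Divisor k K) (Finsupp.single R 1 + Finsupp.single S 1) := by
    have := hlinσ Y; rwa [hY] at this
  obtain ⟨-, w, -, -, -, -, hww, -, -, hlinw⟩ := exists_swap hK hg h2k Y P0
  obtain ⟨P₁, Q₁, hA⟩ := exists_pair hK (E := A) (poles_nonneg t₁) hA2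
  have hu : Transcendental k (w t₁) := fun h => ht₁ ((isAlgebraic_algHom_iff (w : K →ₐ[k] K) w.injective).1 h)
  have hcc : ∀ Q : Place k K, cm w (cm w Q) = Q := fun Q =>
    Subtype.ext (Valuation.ext fun x => by rw [cm_apply, cm_apply, hww])
  have hpu : (poles (w t₁) : Divisor k K) = Finsupp.single (cm w P₁) 1 + Finsupp.single (cm w Q₁) 1 := by
    ext Q
    have hord : Q.ord (w t₁) = (cm w Q).ord t₁ := by simp only [Place.ord, cm_apply]
    have hQ : (poles (w t₁) : Divisor k K) Q = A (cm w Q) := by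
      simp only [A, poles, Finsupp.mapRange_apply, div_apply hF, hord]
    have hs : ∀ P, (Finsupp.single P (1 : ℤ)) (cm w Q) = (Finsupp.single (cm w P) (1 : ℤ)) Q := fun P => by
      simp only [Finsupp.single_apply]
      refine if_congr ⟨fun e => by rw [e, hcc], fun e => by rw [← e, hcc]⟩ rfl rfl
    rw [hQ, hA, Finsupp.add_apply, Finsupp.add_apply, hs, hs]
  have hlin : Lin (poles (w t₁) : Divisor k K) B := by
    have h1 := ((hlinw P₁).add hF (hlinw Q₁)).sub hF (Lin.refl hF A)
    have h2 : Lin (Finsupp.single Y 1 + Finsupp.single P0 1 + (Finsupp.single Y 1 + Finsupp.single P0 1) - A :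
        Divisor k K) (A + B - A) := by
      have e1 : (Finsupp.single Y 1 + Finsupp.single P0 1 + (Finsupp.single Y 1 + Finsupp.single P0 1) - A :
          Divisor k K) = Finsupp.single Y 1 + Finsupp.single Y 1 + (Finsupp.single P0 1 + Finsupp.single P0 1 - A) := by
        abel
      have e2 : (A + B - A : Divisor k K) = D + (Finsupp.single P0 1 + Finsupp.single P0 1 - A) := by
        simp only [D]; abel
      rw [e1, e2]
      exact (hYY.trans hF (hDE.symm hF)).add hF (Lin.refl hF _)
    have h3 := h1.trans hF h2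
    rw [add_sub_cancel_left, hA] at h3
    rw [hpu]
    convert h3 using 1
    abel
  have hmem := mem_of_lin hK hg ht₂ hu hd₂ hlin
  have hmap : (k⟮t₁⟯).map (w : K →ₐ[k] K) = k⟮w t₁⟯ := by rw [adjoin_map, Set.image_singleton]; rfl
  refine ⟨w, hmap.trans ?_⟩
  have hdu : Module.finrank k⟮w t₁⟯ K = 2 := by
    have h := deg_poles hF hu
    rw [hpu, Divisor.deg_add, deg_pt hK, deg_pt hK] at h
    omega
  haveI := IsFF.finite_adjoin hF hu
  exact eq_of_le_of_finrank_eq' (adjoin_simple_le_iff.2 hmem) (hdu.trans hd₂.symm)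

end Groth.Agent.CurvFam16.Genus1
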