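import Groth.Agent.CurvFam16.EllAutInf
import Groth.Agent.LS17.FFBase
import Groth.Agent.LS17.Trisecant

/-! Involutions of a genus one function field attached to pairs of places. -/

set_option linter.unusedSectionVars false
set_option linter.style.haveILetI false

namespace Groth.Agent.CurvFam16.Genus1

open FunFld WithZero IntermediateField
open Groth.Agent.FFLib Groth.Agent.LS17

variable {k K : Type*} [Field k] [Field K] [Algebra k K]

/-- The place pulled back by an automorphism. -/
noncomputable def cm (σ : K ≃ₐ[k] K) (R : Place k K) : Place k K :=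
  ⟨R.1.comap (σ : K →+* K), fun c => by
    show R.1 (σ (algebraMap k K c)) ≤ 1
    rw [σ.commutes]; exact R.2.1 c, fun g => by
    obtain ⟨x, hx⟩ := R.2.2 g
    exact ⟨σ.symm x, by show R.1 (σ (σ.symm x)) = g; rw [σ.apply_symm_apply, hx]⟩⟩

theorem cm_apply (σ : K ≃ₐ[k] K) (R : Place k K) (x : K) : (cm σ R).1 x = R.1 (σ x) := rfl

theorem cm_injective (σ : K ≃ₐ[k] K) : Function.Injective (cm σ) := fun R R' h =>
  Subtype.ext (Valuation.ext fun x => by
    have := congrArg (fun S : Place k K => S.1 (σ.symm x)) h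
    simpa [cm_apply] using this)

variable [IsAlgClosed k] (hK : IsFunctionField k K)
include hK

/-- The two poles of a function fixed by the involution are exchanged. -/
theorem pole_pair {u : K} (hu : Transcendental k u) (h2 : Module.finrank k⟮u⟯ K = 2) {σ : K ≃ₐ[k] K}
    (hσu : σ u = u) (hnorm : ∀ z, z * σ z ∈ k⟮u⟯) {R : Place k K} (hR : (poles u : Divisor k K) R ≠ 0) :
    (poles u : Divisor k K) = Finsupp.single R 1 + Finsupp.single (cm σ R) 1 := by
  classical
  set E := (poles u : Divisor k K)
  have hu0 : u ≠ 0 := fun e => hu (e ▸ isAlgebraic_zero)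
  have hdeg : E.deg = 2 := by rw [deg_poles hK.1 hu, h2]; norm_num
  have hE0 : 0 ≤ E := poles_nonneg u
  have hinv : ∀ S, E (cm σ S) = E S := fun S => by
    simp only [E, poles, Finsupp.mapRange_apply, div_apply hK.1]
    have : (cm σ S).ord u = S.ord u := by simp only [Place.ord, cm_apply, hσu]
    rw [this]
  have hR1 : Finsupp.single R 1 ≤ E := fun S => by
    rcases eq_or_ne R S with rfl | hS
    · have := hE0 R; rw [Finsupp.zero_apply] at this; rw [Finsupp.single_eq_same]; omega
    · rw [Finsupp.single_eq_of_ne (Ne.symm hS)]; exact hE0 S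
  obtain ⟨S, hS⟩ := exists_single_le hK (sub_nonneg.mpr hR1) (by rw [deg_sub_pt hK, hdeg]; norm_num)
  have hEq : E = Finsupp.single R 1 + Finsupp.single S 1 := by
    refine eq_of_sub_eq_zero (eq_zero_of_deg_zero hK (sub_nonneg.mpr ?_) ?_)
    · exact add_le_of_le_sub_left hS
    · rw [Divisor.deg_sub, Divisor.deg_add, deg_pt hK, deg_pt hK, hdeg]; norm_num
  have hmem : ∀ T, E T ≠ 0 → T = R ∨ T = S := fun T hT => by
    by_contra! hno
    apply hT
    rw [hEq, Finsupp.add_apply, Finsupp.single_eq_of_ne hno.1, Finsupp.single_eq_of_ne hno.2, add_zero]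
  have hc : cm σ R = R ∨ cm σ R = S := hmem _ (by rwa [hinv])
  rcases eq_or_ne S R with rfl | hne
  · rcases hc with h | h <;> rw [h] <;> exact hEq
  rcases hc with hfix | h
  swap
  · rw [h]; exact hEq
  exfalso
  have hSne : E S ≠ 0 := by
    rw [hEq, Finsupp.add_apply, Finsupp.single_eq_same, Finsupp.single_eq_of_ne hne]; norm_num
  have hfixS : cm σ S = S := (hmem _ (by rwa [hinv])).resolve_left fun h =>
    hne (cm_injective σ (h.trans hfix.symm))
  have hval : ∀ T, (T = R ∨ T = S) → T.1 u = exp (1 : ℤ) := fun T hT => by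
    have hET : E T = 1 := by
      rw [hEq, Finsupp.add_apply]
      rcases hT with rfl | rfl
      · rw [Finsupp.single_eq_same, Finsupp.single_eq_of_ne (Ne.symm hne), add_zero]
      · rw [Finsupp.single_eq_same, Finsupp.single_eq_of_ne hne, zero_add]
    simp only [E, poles, Finsupp.mapRange_apply, div_apply hK.1] at hET
    rw [val_eq_exp T hu0, exp_inj]
    omega
  obtain ⟨z, hz1, hz2⟩ := exists_sep_two (P := R) (Q := S) hne
  have h := EllAutInf.val_eq_of_mem hu (hval R (Or.inl rfl)) (hval S (Or.inr rfl)) (hnorm z)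
  rw [map_mul, map_mul, ← cm_apply σ R, ← cm_apply σ S, hfix, hfixS] at h
  exact (((mul_lt_one_of_lt_of_le hz1 hz1.le).trans (one_lt_mul'' hz2 hz2)).ne) h

/-- In characteristic different from two quadratic extensions are separable. -/
theorem isSeparable_of_two (h2k : (2 : k) ≠ 0) {F : IntermediateField k K} (h2 : Module.finrank F K = 2) :
    Algebra.IsSeparable F K := by
  haveI : FiniteDimensional F K := Module.finite_of_finrank_eq_succ h2
  refine ⟨fun y => ?_⟩
  have hint : IsIntegral F y := IsIntegral.of_finite _ _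
  refine (Polynomial.separable_iff_derivative_ne_zero (minpoly.irreducible hint)).2 fun hd => ?_
  have hle : (minpoly F y).natDegree ≤ 2 := h2 ▸ minpoly.natDegree_le y
  have hpos := minpoly.natDegree_pos hint
  have h := congrArg (fun p => Polynomial.coeff p ((minpoly F y).natDegree - 1)) hd
  simp only [Polynomial.coeff_derivative, Polynomial.coeff_zero, Nat.sub_add_cancel hpos,
    (minpoly.monic hint).coeff_natDegree, one_mul] at h
  have h2F : (2 : F) ≠ 0 := fun e => h2k ((algebraMap k F).injective (by rw [map_ofNat, e, map_zero]))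
  rcases (show (minpoly F y).natDegree = 1 ∨ (minpoly F y).natDegree = 2 by omega) with e | e <;>
    rw [e] at h <;> norm_num at h
  exact h2F h

/-- The involution exchanging the places of the pencil through two given places. -/
theorem exists_swap (hg : genus k K = 1) (h2k : (2 : k) ≠ 0) (P Q : Place k K) :
    ∃ (t : K) (σ : K ≃ₐ[k] K), Transcendental k t ∧ Module.finrank k⟮t⟯ K = 2 ∧ σ t = t ∧ σ ≠ AlgEquiv.refl ∧
      (∀ z, σ (σ z) = z) ∧ cm σ P = Q ∧
      (poles t : Divisor k K) = Finsupp.single P 1 + Finsupp.single Q 1 ∧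
      ∀ R, Lin (Finsupp.single R 1 + Finsupp.single (cm σ R) 1 : Divisor k K)
        (Finsupp.single P 1 + Finsupp.single Q 1) := by
  classical
  set D : Divisor k K := Finsupp.single P 1 + Finsupp.single Q 1 with hD
  have hd : D.deg = 2 := by rw [hD, Divisor.deg_add, deg_pt hK, deg_pt hK]; norm_num
  have hD0 : 0 ≤ D := add_nonneg (Finsupp.single_nonneg.mpr zero_le_one) (Finsupp.single_nonneg.mpr zero_le_one)
  have hl : (ell D : ℤ) = 2 := by rw [ell_of_deg_gt hK (by rw [hd, hg]; norm_num), hd, hg]; rfl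
  haveI := L_finite hK.1 D
  obtain ⟨t, htL, ht0⟩ : ∃ t, t ∈ L D ∧ t ∉ L (0 : Divisor k K) := by
    by_contra! h
    haveI := L_finite hK.1 (0 : Divisor k K)
    have := Submodule.finrank_mono (show L D ≤ L (0 : Divisor k K) from h)
    have h0 := ell_zero hK
    simp only [ell] at h0 hl
    omega
  have ht : Transcendental k t := transcendental_of_not_range hK fun ⟨c, hc⟩ => ht0 <| by
    subst hc
    exact mem_L.2 fun R => by rw [Finsupp.coe_zero, Pi.zero_apply, exp_zero]; exact R.2.1 c
  have hle : (poles t : Divisor k K) ≤ D := fun R => by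
    rw [poles, Finsupp.mapRange_apply, div_apply hK.1]
    have h1 := (mem_L_iff_ord (fun e : t = 0 => ht (e ▸ isAlgebraic_zero))).mp htL R
    have h2 := hD0 R
    rw [Finsupp.zero_apply] at h2
    omega
  have hfin : 2 ≤ Module.finrank k⟮t⟯ K := by
    haveI := IsFF.finite_adjoin hK.1 ht
    by_contra hlt
    have hpos : 0 < Module.finrank k⟮t⟯ K := Module.finrank_pos
    have := (genus_eq_zero_of_adjoin hK (adjoin_eq_top_iff.2 (show Module.finrank k⟮t⟯ K = 1 by omega))).1
    omega
  have hpo : (poles t : Divisor k K) = D := deg_eq_of_le hK.1 hle (by rw [deg_poles hK.1 ht, hd]; exact_mod_cast hfin)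
  have h2 : Module.finrank k⟮t⟯ K = 2 := by
    have := deg_poles hK.1 ht
    rw [hpo, hd] at this
    exact_mod_cast this.symm
  haveI := isSeparable_of_two hK h2k h2
  obtain ⟨σ', hσne, hσn⟩ := EllAutInf.exists_aut_ne (F := k⟮t⟯) (L := K) h2
  let σ : K ≃ₐ[k] K := σ'.restrictScalars k
  have hσt : σ t = t := σ'.commutes ⟨t, mem_adjoin_simple_self k t⟩
  have hnorm : ∀ z, z * σ z ∈ k⟮t⟯ := fun z => by
    obtain ⟨c, hc⟩ := hσn z
    exact (show z * σ z = (c : K) from hc.symm) ▸ c.2
  have hσσ : ∀ z, σ (σ z) = z := fun z => by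
    rcases eq_or_ne z 0 with rfl | hz
    · simp
    have hfix : σ (z * σ z) = z * σ z := σ'.commutes ⟨_, hnorm z⟩
    rw [map_mul, mul_comm z] at hfix
    exact mul_left_cancel₀ ((map_ne_zero σ).2 hz) hfix
  have hRE : ∀ R, D R ≠ 0 → D = Finsupp.single R 1 + Finsupp.single (cm σ R) 1 := fun R hR => by
    rw [← hpo] at hR ⊢
    exact pole_pair hK ht h2 hσt hnorm hR
  refine ⟨t, σ, ht, h2, hσt, fun e => hσne (AlgEquiv.ext fun z => congrArg (fun φ : K ≃ₐ[k] K => φ z) e), hσσ, ?_, hpo, fun R => ?_⟩
  · have := hRE P (by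
      have : (0 : ℤ) ≤ (Finsupp.single Q 1 : Divisor k K) P := Finsupp.single_nonneg.mpr zero_le_one P
      rw [hD, Finsupp.add_apply, Finsupp.single_eq_same]; omega)
    exact (Finsupp.single_left_injective one_ne_zero (add_left_cancel this)).symm
  by_cases hR : D R = 0
  swap
  · exact (hRE R hR) ▸ Lin.refl hK.1 _
  have hR' : R.1 t ≤ 1 := by
    rw [← hpo, poles, Finsupp.mapRange_apply, div_apply hK.1] at hR
    rw [val_le_one_iff R (fun e : t = 0 => ht (e ▸ isAlgebraic_zero))]
    omega
  set c := pv R t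
  set v := t - algebraMap k K c
  have hvt : Transcendental k v := fun h => ht (by simpa [v] using h.add (isAlgebraic_algebraMap c))
  have hadj : k⟮v⟯ = k⟮t⟯ := le_antisymm
    (adjoin_simple_le_iff.mpr (sub_mem (mem_adjoin_simple_self k t) (IntermediateField.algebraMap_mem _ c)))
    (adjoin_simple_le_iff.mpr (by
      simpa [v] using add_mem (mem_adjoin_simple_self k v) (IntermediateField.algebraMap_mem k⟮v⟯ c)))
  have hadj' : k⟮v⁻¹⟯ = k⟮t⟯ := (adjoin_inv v).trans hadj
  have hpoles : (poles v : Divisor k K) = D := by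
    rw [← hpo]
    ext S
    simp only [poles, Finsupp.mapRange_apply, div_apply hK.1]
    have htne : t ≠ 0 := fun e => ht (e ▸ isAlgebraic_zero)
    have hvne : v ≠ 0 := fun e => hvt (e ▸ isAlgebraic_zero)
    by_cases hS : S.1 t ≤ 1
    · have h1 := (val_le_one_iff S htne).mp hS
      have h2' := (val_le_one_iff S hvne).mp (le_one_sub hS (S.2.1 c))
      omega
    · have : S.1 v = S.1 t := Valuation.map_sub_eq_of_lt_left _ ((S.2.1 c).trans_lt (not_le.mp hS))
      rw [val_eq_exp S hvne, val_eq_exp S htne, exp_inj] at this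
      omega
  have hpair := pole_pair hK (transcendental_inv hvt) (by rw [hadj']; exact h2)
    (u := v⁻¹) (σ := σ) (by rw [map_inv₀, map_sub, hσt, σ.commutes])
    (fun z => hadj' ▸ hnorm z) (R := R) (by
      have hlt := pv_spec hK hR'
      have hvne : v ≠ 0 := fun e => hvt (e ▸ isAlgebraic_zero)
      have := (val_lt_one_iff R hvne).mp hlt
      rw [poles, Finsupp.mapRange_apply, div_apply hK.1, ord_inv]
      omega)
  refine ⟨v⁻¹, inv_ne_zero fun e => hvt (e ▸ isAlgebraic_zero), ?_⟩
  rw [← hpair, ← hpoles, poles_inv hK.1, div_inv hK.1, div_eq_zeros_sub_poles]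
  abel

end Groth.Agent.CurvFam16.Genus1
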